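import Cfsg.Agent.H0.TC
set_option maxRecDepth 100000
namespace H0.TCM230
open H0
noncomputable def r0 : TC.WTr := (.node (.node (.node (.node (.node (.node (.leaf [0] 0 0 false) (.leaf [9, 3, 4, 2, 9, 1, 9] 83 4 false)) (.leaf [8] 8 1 false)) (.node (.leaf [5] 4 0 false) (.leaf [14] 14 0 false))) (.node (.node (.leaf [19, 1, 15, 18, 14, 13] 81 0 false) (.leaf [17, 11, 12] 36 2 false)) (.node (.leaf [4, 15, 5, 16, 6, 11, 9] 71 7 false) (.leaf [17, 17] 21 0 true)))) (.node (.node (.node (.leaf [0, 2, 3] 76 0 false) (.leaf [7, 9, 7, 3] 67 1 false)) (.node (.leaf [8, 6, 10, 3] 67 0 true) (.leaf [17] 16 0 false))) (.node (.node (.leaf [11, 7, 9, 7] 67 0 false) (.leaf [9, 5, 10, 4, 6, 8, 19] 70 3 true)) (.node (.leaf [9] 8 0 false) (.leaf [14, 16, 14] 22 0 true))))) (.node (.node (.node (.node (.leaf [0] 0 0 false) (.leaf [7, 9, 18, 4, 6, 9, 5, 9] 73 1 true)) (.node (.leaf [9, 17, 12, 9, 4, 19] 68 2 false)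 (.leaf [5, 16, 6, 11, 9, 7, 4] 71 1 false))) (.node (.node (.leaf [2, 11, 9, 4, 15, 5, 1] 85 1 false) (.leaf [13] 12 0 false)) (.node (.leaf [9] 8 0 false) (.leaf [16] 16 1 false)))) (.node (.node (.node (.leaf [2] 1 0 false) (.leaf [10] 10 1 false)) (.node (.leaf [7] 6 0 false) (.leaf [16, 16] 21 0 false))) (.node (.node (.leaf [16, 0, 5, 3, 12, 3] 79 4 true) (.leaf [5, 8, 16, 10, 9, 4] 69 1 false)) (.node (.leaf [7, 11, 6] 49 1 false) (.leaf [1, 15, 18, 14, 13, 2] 81 1 false))))))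
noncomputable def r1 : TC.WTr := (.node (.node (.node (.node (.node (.node (.leaf [2, 3, 1] 76 1 false) (.leaf [18] 18 1 false)) (.leaf [11] 10 0 false)) (.node (.leaf [2, 0, 2, 0, 2, 0, 1, 0, 1] 77 9 false) (.leaf [14] 14 0 false))) (.node (.node (.leaf [3, 1, 0] 76 2 false) (.leaf [17, 19, 12, 18, 16] 45 0 false)) (.node (.leaf [7, 7, 7] 47 0 true) (.leaf [11, 12, 12] 36 3 false)))) (.node (.node (.node (.leaf [4, 14, 5, 2, 14] 80 2 false) (.leaf [15, 10, 16, 15, 17, 14] 42 0 false)) (.node (.leaf [4, 3, 4, 3, 5] 62 0 true) (.leaf [1, 4, 0, 1, 3, 12, 3, 4] 89 4 true))) (.node (.node (.leaf [17, 10, 3, 1, 17, 9, 2] 86 0 true) (.leaf [12] 12 1 false)) (.node (.leaf [9] 8 0 false) (.leaf [19] 18 0 false))))) (.node (.node (.node (.node (.leaf [0] 0 0 false) (.leaf [13, 14, 12, 16] 44 3 true)) (.node (.leaf [4] 4 1 false) (.leaf [7, 10, 8, 11, 12, 11] 59 3 true))) (.node (.node (.leaf [8, 18, 8, 2,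 8, 1, 5] 83 1 true) (.leaf [2, 19, 1, 15, 18, 14] 81 6 false)) (.node (.leaf [13, 16, 8, 4, 18, 5] 68 0 true) (.leaf [19] 18 0 false)))) (.node (.node (.node (.leaf [1] 1 1 false) (.leaf [10] 10 1 false)) (.node (.leaf [7] 6 0 false) (.leaf [17] 16 0 false))) (.node (.node (.leaf [19, 5, 9, 17, 12, 9] 68 0 false) (.leaf [11, 19, 17, 10] 41 1 false)) (.node (.leaf [5, 5, 3, 5, 3, 4, 3, 4, 3, 4] 63 10 false) (.leaf [19, 19] 20 0 true))))))
noncomputable def r2 : TC.WTr := (.node (.node (.node (.node (.node (.node (.leaf [17, 5, 3, 13, 3, 4] 79 0 false) (.leaf [18] 18 1 false)) (.leaf [8] 8 1 false)) (.node (.leaf [4] 4 1 false) (.leaf [14] 14 0 false))) (.node (.node (.leaf [9, 1, 9, 19, 9, 3, 4] 83 0 false) (.leaf [16, 10, 13, 14] 44 1 true)) (.node (.leaf [19, 7, 12, 14, 16] 55 3 true) (.leaf [15, 16, 18, 15, 19] 31 0 false)))) (.node (.node (.node (.leaf [16, 15, 2, 3, 18, 3, 19] 87 4 true) (.leaf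 [11, 11] 32 0 true)) (.node (.leaf [14, 10, 6, 14, 10] 56 2 true) (.leaf [3, 1, 8, 16, 2, 3, 11] 86 6 false))) (.node (.node (.leaf [4, 3, 5, 6, 4] 62 2 true) (.leaf [9, 13, 15, 9] 54 1 false)) (.node (.leaf [9] 8 0 false) (.leaf [5, 10, 2, 9, 13, 6, 1] 88 4 true))))) (.node (.node (.node (.node (.leaf [0] 0 0 false) (.leaf [4, 6, 8, 19, 13, 9, 5] 70 6 true)) (.node (.leaf [10, 4, 6, 8, 19, 13, 9] 70 5 true) (.leaf [9, 13, 9, 13] 54 4 false))) (.node (.node (.leaf [1, 0, 2] 76 3 false) (.leaf [12] 12 1 false)) (.node (.leaf [8, 8] 48 0 false) (.leaf [16] 16 1 false)))) (.node (.node (.node (.leaf [2] 1 0 false) (.leaf [10] 10 1 false)) (.node (.leaf [7] 6 0 false) (.leaf [6, 12, 11, 15, 12, 9] 58 1 false))) (.node (.node (.leaf [3, 4, 3, 4, 9, 5, 5, 3, 5, 3] 63 5 false) (.leaf [5, 2, 14, 1, 4] 80 4 false)) (.node (.leaf [6, 9, 13, 7, 8, 7] 50 3 false) (.leaf [5, 9, 17, 12, 9, 4] 68 1 false))))))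
noncomputable def r3 : TC.WTr := (.node (.node (.node (.node (.node (.node (.leaf [1, 3, 12, 3, 4, 16, 1, 4] 89 7 true) (.leaf [18] 18 1 false)) (.leaf [9, 4, 14, 5, 8, 16] 69 5 false)) (.node (.leaf [7, 4, 3, 5, 3] 62 4 false) (.leaf [15] 15 0 false))) (.node (.node (.leaf [3, 17, 10, 3, 1, 17, 9] 86 7 true) (.leaf [14, 16, 7, 19, 7] 55 0 true)) (.node (.leaf [11, 6, 9] 49 2 false) (.leaf [19, 13, 18, 16, 13] 45 0 true)))) (.node (.node (.node (.leaf [3, 2, 11, 9, 4, 15, 5] 85 0 false) (.leaf [18, 11, 18] 40 1 true)) (.node (.leaf [6, 6, 6] 47 0 false) (.leaf [2, 3, 11, 16, 3, 1, 8] 86 2 false))) (.node (.node (.leaf [5, 3, 5, 7, 4] 62 1 false) (.leaf [12] 12 1 false)) (.node (.leaf [9] 8 0 false) (.leaf [19] 18 0 false))))) (.node (.node (.node (.node (.leaf [0] 0 0 false) (.leaf [3, 6, 8, 6] 67 3 true)) (.node (.leaf [4] 4 1 false) (.leaf [16, 15, 16, 15, 16] 28 0 false))) (.node (.node (.leaf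 [17, 2, 6, 1, 5, 3, 18] 84 3 true) (.leaf [5, 9, 6, 18, 10, 4, 9] 74 2 false)) (.node (.leaf [7, 5, 19, 8, 6, 11, 8, 4] 73 1 false) (.leaf [13, 15, 12, 11, 12] 46 4 true)))) (.node (.node (.node (.leaf [0, 2, 0, 2, 0, 1, 0, 1, 5] 77 0 false) (.leaf [10] 10 1 false)) (.node (.leaf [6] 6 1 false) (.leaf [17] 16 0 false))) (.node (.node (.leaf [5] 4 0 false) (.leaf [15, 14, 15] 23 0 false)) (.node (.leaf [13, 15, 9, 13] 54 2 false) (.leaf [14, 17, 14] 22 3 false))))))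
noncomputable def tS : Tr := (.leaf (nat_lit 0x1ffdd3409861120fac5e574c09edc3137c0d048b4e51f10d4d3cf7871bfffc218610de2735a5df11a143d57e7026104087860d1e63aa3a6f35547ff3ba51c1999855e6c9beba4758e55d52927b7081b215472af71b337effeb4dcf2bf584c19ad36472aa5195b3625edf5b30320c2cbdbf276757ffd6c91f238a38f11d82ea0c55291f4c8f0db495e2daa45e20c46063e3ff95e3926c8baa9521c761a78d2260d01a78be06298da8294586b6972fff494bc96e2a83d69d952aa54e6a006f27554ec48188af558355391dcffe31c6f46615ec858627349913de21eb1ecafc630b018e0c51807723fffe103c518f13d53c7d4949d44089855e9fc6f28e190064498774bcbf7ff851030a515719031e8de1b9932c4631032325549fd3f29f5f8b3d63fff0301a50b94b5807d5e19c62685f50f1e8438b08269eb1b6bc870a5dffe4f5330461220610baf64c84f44a2d45d6b91031be5624709b11f275ffd0baf355a6f4f4818528a503f2c44929813da1e8cc9d9a7abc54ad17ff94a2365952297d5280604597d29c690f11a63a8980d48af52efcdaefff17e4d0d413d4146ad492df1220614a20937c640ec0682109e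d27494ffe4d05487e08cdfdbe90028e1d0548181a44085b91b264409e21f84f3ffdca2324628d102205840995a7a660b66f80c0e07e4168ddaed1ecc73ff96d2a65a82c9472ea580cc95322e818d59822362180c0ed4ccc6d6d7ff2024608c12f42a125162434b490caab3660ec080c0585222644c047ffe234520bb148234520571da4c07b8ed1721585c8750aa1500c047091ffc180470ea178180300ea1782385e06011c180470782341805f000183ff83b07418c338390702a81b8360c62901a8a40680cc1902f0000c417fff000000000000000000000000000000000000000000000000640c017))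
noncomputable def tJ : Tr := (.leaf (nat_lit 0x10049d090210041935421063250128000380a30000028087a95870062000a4841cc60210600003580e3280e001ca200006394079894030980314c6318b0394c0018000180230006000e400cc2000f031123000a0100002880001ca32820200c02180a001400000092800420202184804800030066280000000f384229007009404108031040538005202608008400008210020006029c017800010200400002004200000101c020000240871808020c00000a268001000608100018000284000014000c20000001400018480200004800218c0000c008044010008000e040060014e500c0080000300002000428044000020000004064008a01002028c2001404302004000310020008220080000000080100882008001084010802008000101c0100000000000001080200002e008006b5ad6b5ad6b5ad6b5ad68001))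
noncomputable def tQ : Tr := (.leaf (nat_lit 0x0))
noncomputable def tR : TC.WTr := (.node (.node (.node r0 (.node (.node (.node (.node (.node (.leaf [0] 0 0 false) (.leaf [6, 8, 7] 49 0 true)) (.node (.leaf [10, 2, 9, 13, 6, 1, 18] 88 5 true) (.leaf [1, 13, 9, 3, 7, 3, 2] 82 1 false))) (.node (.node (.leaf [1] 1 1 false) (.leaf [11, 15, 7, 10, 8, 11] 59 1 true)) (.node (.leaf [6] 6 1 false) (.leaf [5, 3, 13, 3, 4, 0] 79 1 false)))) (.node (.node (.node (.leaf [4, 0, 1, 3, 12, 3, 4, 16] 89 5 true) (.leaf [4, 8, 12, 18, 9, 7, 5] 70 1 false)) (.node (.leaf [18, 6, 17, 14, 13] 55 0 false) (.leaf [12, 17, 19, 12, 18] 45 5 false))) (.node (.node (.leaf [5] 4 0 false) (.leaf [12] 12 1 false)) (.node (.leaf [9] 8 0 false) (.leaf [19] 18 0 false))))) (.node (.node (.node (.node (.leaf [0] 0 0 false) (.leaf [11] 10 0 false)) (.node (.leaf [4] 4 1 false) (.leaf [15] 15 0 false))) (.node (.node (.leaf [19,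 3, 1, 15, 17, 2, 18] 87 5 false) (.leaf [6, 10, 13, 6, 10] 57 1 true)) (.node (.leaf [6, 10, 3, 6] 67 1 true) (.leaf [10, 14, 11, 16] 41 1 true)))) (.node (.node (.node (.leaf [11, 9, 4, 15, 5, 1, 3] 85 2 false) (.leaf [13] 12 0 false)) (.node (.leaf [1, 16, 3, 19, 3, 4, 2] 84 1 false) (.leaf [17] 16 0 false))) (.node (.node (.leaf [5] 4 0 false) (.leaf [12, 11, 17, 13] 44 4 false)) (.node (.leaf [13, 5, 9, 6, 18, 10, 4] 74 1 false) (.leaf [3, 1, 15, 17, 2, 18, 3] 87 6 false))))))) (.node r1 (.node (.node (.node (.node (.node (.leaf [0] 0 0 false) (.leaf [10, 10] 32 0 false)) (.node (.leaf [9, 6, 18, 10, 4, 9, 13] 74 3 false) (.leaf [10, 13, 7, 17, 8, 13] 58 1 true))) (.node (.node (.leaf [1] 1 1 false) (.leaf [13] 12 0 false)) (.node (.leaf [6] 6 1 false) (.leaf [16] 16 1 false)))) (.node (.node (.node (.leaf [2] 1 0 false) (.leaf [12, 14, 12, 10, 13, 13] 34 5 true)) (.node (.leaf [9, 13, 7, 8,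 7, 9] 50 4 false) (.leaf [8, 4, 18, 5, 8, 13] 68 2 true))) (.node (.node (.leaf [4, 4, 4] 61 0 false) (.leaf [14] 14 0 false)) (.node (.leaf [1, 9, 19, 9, 3, 4, 2] 83 1 false) (.leaf [19] 18 0 false))))) (.node (.node (.node (.node (.leaf [1, 1, 1] 75 0 false) (.leaf [11] 10 0 false)) (.node (.leaf [7] 6 0 false) (.leaf [15] 15 0 false))) (.node (.node (.leaf [13, 3, 4, 0, 17, 5] 79 3 false) (.leaf [13, 13, 13] 33 0 true)) (.node (.leaf [4, 18, 5, 8, 13, 16] 68 3 true) (.leaf [11, 18, 11] 40 0 true)))) (.node (.node (.node (.leaf [15, 1, 3, 6, 3, 8, 12] 82 5 true) (.leaf [8, 5, 11, 19, 7, 8, 4] 74 5 true)) (.node (.leaf [9, 7, 3, 11] 67 2 false) (.leaf [14, 19, 14] 22 1 false))) (.node (.node (.leaf [5] 4 0 false) (.leaf [16, 7, 19, 7, 12] 55 1 true)) (.node (.leaf [9, 9] 48 0 true) (.leaf [2, 7, 12, 8, 1, 11, 4] 88 3 false)))))))) (.node (.node r2 (.node (.node (.node (.node (.node (.leaf [0] 0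 0 false) (.leaf [19, 10, 19] 40 0 false)) (.node (.leaf [3, 5, 7, 4, 3] 62 2 false) (.leaf [10, 16, 15, 17, 14, 11] 42 1 false))) (.node (.node (.leaf [1] 1 1 false) (.leaf [13] 12 0 false)) (.node (.leaf [6] 6 1 false) (.leaf [12, 9, 4, 19, 5, 9] 68 4 false)))) (.node (.node (.node (.leaf [9, 19, 9, 3, 4, 2, 9] 83 2 false) (.leaf [6, 9, 7] 49 3 false)) (.node (.leaf [9, 5, 9, 10, 7, 9, 18, 4] 73 6 true) (.leaf [4, 10, 19, 12, 9, 4, 3] 72 6 true))) (.node (.node (.leaf [3, 4, 3, 5, 6] 62 1 true) (.leaf [12] 12 1 false)) (.node (.leaf [8] 8 1 false) (.leaf [19] 18 0 false))))) (.node (.node (.node (.node (.leaf [2] 1 0 false) (.leaf [11] 10 0 false)) (.node (.leaf [4] 4 1 false) (.leaf [15] 15 0 false))) (.node (.node (.leaf [7, 3, 2, 15, 1, 13, 9] 82 5 false) (.leaf [14, 12, 11, 17] 44 3 false)) (.node (.leaf [5, 3, 5, 3, 5, 3, 4, 3, 4, 4] 63 0 true) (.leaf [18, 18] 20 0 false)))) (.node (.node (.node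 (.leaf [7, 1, 16, 3, 19, 3, 4] 84 0 false) (.leaf [8, 1, 11, 4, 19, 2, 7] 88 6 false)) (.node (.leaf [3, 11, 7, 9] 67 4 false) (.leaf [16] 16 1 false))) (.node (.node (.leaf [5] 4 0 false) (.leaf [16, 14, 16, 14, 16] 25 0 false)) (.node (.leaf [4, 14, 5, 8, 16, 10] 69 6 false) (.leaf [13, 10, 13, 15, 12] 46 1 false))))))) (.node r3 (.node (.node (.node (.node (.node (.leaf [0] 0 0 false) (.leaf [16, 13, 13] 36 3 true)) (.node (.leaf [11, 4, 8, 12, 18, 9, 7] 70 0 false) (.leaf [7, 11, 18, 15, 10, 6, 17] 60 6 true))) (.node (.node (.leaf [3] 3 0 false) (.leaf [13] 12 0 false)) (.node (.leaf [6] 6 1 false) (.leaf [16] 16 1 false)))) (.node (.node (.node (.leaf [2] 1 0 false) (.leaf [6, 15, 10, 13, 10, 9] 59 1 false)) (.node (.leaf [7] 6 0 false) (.leaf [0, 5, 3, 12, 3, 4] 79 5 true))) (.node (.node (.leaf [10, 19, 12, 9, 4, 3, 16] 72 7 true) (.leaf [1, 4, 14, 5, 2] 80 1 false)) (.node (.leaf [13, 9,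 13, 15] 54 0 false) (.leaf [18] 18 1 false))))) (.node (.node (.node (.node (.leaf [17, 9, 2, 3, 17, 10, 3] 86 4 true) (.leaf [10] 10 1 false)) (.node (.leaf [15, 10, 13, 10, 9, 11] 59 2 false) (.leaf [15] 15 0 false))) (.node (.node (.leaf [19, 3, 4, 2, 7, 1, 16] 84 4 false) (.leaf [13, 10, 16] 36 1 true)) (.node (.leaf [9] 8 0 false) (.leaf [16, 13, 17, 19, 13] 45 3 true)))) (.node (.node (.node (.leaf [2, 2, 2] 75 0 true) (.leaf [3, 4, 16, 0, 5, 3] 79 2 true)) (.node (.leaf [4, 3, 5, 3, 5] 62 5 false) (.leaf [2, 18, 3, 19, 3, 1, 15] 87 2 false))) (.node (.node (.leaf [5] 4 0 false) (.leaf [14] 14 0 false)) (.node (.leaf [8] 8 1 false) (.leaf [3, 4, 2, 7, 1, 16, 3] 84 5 false)))))))))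
def hl : List ℕ := [3, 4, 5, 5, 4, 6, 7, 7, 6, 8, 9, 9, 8, 10, 11, 11, 10, 12, 13, 13, 12, 14, 15, 16, 17, 17, 16, 18, 19, 19, 18]
def B : List (List ℕ) := [[0, 0], [1, 2], [2, 1], [3, 3], [4, 5], [5, 4], [6, 7], [7, 6], [8, 9], [9, 8], [10, 11], [11, 10], [12, 13], [13, 12], [14, 14], [15, 15], [16, 17], [17, 16], [18, 19], [19, 18], [18, 18, 18], [16, 16, 16], [14, 17, 14, 19], [14, 15, 14, 15], [14, 15, 14, 15], [14, 16, 14, 16, 14, 16], [14, 16, 14, 17, 14, 16, 14, 17], [14, 17, 14, 17, 14, 17], [15, 16, 15, 16, 15, 16], [15, 16, 15, 17, 15, 16, 15, 17], [15, 17, 15, 17, 15, 17], [17, 15, 16, 18, 15, 19], [10, 10, 10], [12, 12, 12, 12], [13, 10, 12, 12, 11, 13, 14], [10, 13, 10, 12, 10, 12, 11, 12, 15], [11, 12, 12, 17], [10, 12, 10, 12, 10, 12, 10, 12, 10, 12], [10, 12, 11, 13, 10, 12, 11, 13, 10, 12, 11, 13, 10, 12, 11, 13, 10, 12, 11, 13], [10, 13, 10, 13, 10, 13, 10, 13, 10, 13], [10, 19,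 10, 19], [10, 14, 11, 19, 17], [11, 15, 10, 16, 15, 17, 14], [10, 15, 11, 17, 15, 16, 14], [12, 11, 17, 13, 14], [12, 17, 19, 12, 18, 16], [12, 19, 13, 10, 13, 15], [6, 6, 6, 6], [8, 8, 8], [6, 9, 7, 11], [7, 8, 7, 9, 6, 9, 13], [6, 8, 6, 8, 6, 8, 6, 8, 6, 8, 6, 8, 6, 8], [6, 8, 7, 9, 6, 8, 7, 9, 6, 8, 7, 9, 6, 8, 7, 9, 6, 8, 7, 9], [6, 9, 6, 9, 6, 9, 6, 9, 6, 9], [9, 13, 9, 13, 15], [6, 18, 6, 17, 14, 13], [7, 11, 14, 7, 11, 14], [7, 12, 11, 7, 12, 11], [9, 16, 6, 12, 11, 15, 12], [9, 11, 6, 15, 10, 13, 10], [6, 15, 16, 7, 11, 15, 19, 10], [4, 4, 4, 4], [4, 3, 5, 3, 5, 7], [5, 5, 3, 5, 3, 4, 3, 4, 3, 4, 9], [3, 4, 3, 4, 3, 4, 3, 4, 3, 4, 3, 4, 3, 4, 3, 4, 3, 4, 3, 4, 3, 4], [3, 4, 3, 5, 3, 4, 3, 5, 3, 4, 3, 5, 3, 4, 3, 5, 3, 4, 3, 5, 3, 4, 3, 5], [3, 5, 3, 5, 3, 5, 3, 5, 3, 5, 3, 5, 3, 5, 3, 5, 3, 5, 3, 5, 3, 5], [3, 11, 7, 9, 7], [4, 19, 5, 9, 17, 12, 9], [4, 14, 5, 8, 16, 10, 9], [5, 11, 4, 8,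 12, 18, 9, 7], [4, 15, 5, 16, 6, 11, 9, 7], [5, 17, 3, 5, 8, 13, 18, 11], [4, 8, 7, 5, 19, 8, 6, 11, 8], [4, 9, 13, 5, 9, 6, 18, 10], [1, 1, 1, 1], [1, 0, 2, 3], [2, 0, 2, 0, 2, 0, 1, 0, 1, 5], [0, 1, 0, 2, 0, 1, 0, 2, 0, 1, 0, 2, 0, 1, 0, 2, 0, 1, 0, 2], [0, 17, 5, 3, 13, 3, 4], [2, 14, 1, 4, 14, 5], [2, 19, 1, 15, 18, 14, 13], [2, 15, 1, 13, 9, 3, 7, 3], [2, 9, 1, 9, 19, 9, 3, 4], [2, 7, 1, 16, 3, 19, 3, 4], [1, 3, 2, 11, 9, 4, 15, 5], [1, 8, 16, 2, 3, 11, 16, 3], [1, 15, 17, 2, 18, 3, 19, 3], [1, 11, 4, 19, 2, 7, 12, 8], [2, 0, 5, 2, 17, 5, 3, 13, 3]]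
def subs : List (List ℕ) := [[3], [4], [5], [6], [7], [8], [9], [10], [11], [12], [13], [14], [15], [16], [17], [18], [19]]
def ex : List (List ℕ) := []
def inv (x : ℕ) : ℕ := [0, 2, 1, 3, 5, 4, 7, 6, 9, 8, 11, 10, 13, 12, 14, 15, 17, 16, 19, 18].getD x 0
noncomputable def rS : ℕ → ℕ := rowOf tS (nat_lit 6) (nat_lit 63) (nat_lit 231) (nat_lit 3450873173395281893717377931138512726225554486085193277581262111899647)
noncomputable def rJ : ℕ → ℕ := rowOf tJ (nat_lit 6) (nat_lit 63) (nat_lit 110) (nat_lit 1298074214633706907132624082305023)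
noncomputable def C : TC.Cfg where
  S := look rS (nat_lit 11) (nat_lit 2047)
  J := look rJ (nat_lit 5) (nat_lit 31)
  Q := lookQ tQ (nat_lit 6) (nat_lit 1) (nat_lit 1)
  R := tR.get
  hl := fun x => hl.contains x
  n := (nat_lit 23)
  M := (nat_lit 23)
  top := (nat_lit 1173)
  nl := (nat_lit 20)
  need := (nat_lit 20)
  nr := (nat_lit 13)
theorem k0 : TC.chkRange C 0 1 = true := by decide +kernel
theorem rows0 : ∀ c < (0 + 1) * 64, c < C.M → TC.chkRow C c = true :=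
  TC.rows_step (TC.rows_zero C) k0
theorem main {G : Type*} [Group G] (g : ℕ → G) (hB : ∀ r ∈ B, ev g r = 1) (H : Subgroup G)
    (hH : ∀ w ∈ subs, ev g w ∈ H) :
    H.relIndex (Subgroup.closure (g '' {x | x < 20})) ≠ 0 ∧
      H.relIndex (Subgroup.closure (g '' {x | x < 20})) ≤ 23 :=
  TC.index_le C B subs ex inv hl tR.hint rfl (by decide +kernel) (by decide +kernel)
    (TC.rows_done rows0 (by decide +kernel)) g hB H hH
end H0.TCM230
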